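import Groth.Agent.Lib.FpqcRep.Small
import Groth.Agent.Lib.TorsorDesc.Basic
import Groth.Agent.Lib.FpqcDesc.ClosedImmersion
import Groth.Agent.Lib.FpqcCov.Basic

/-!
# Descent of properties along morphisms with fpqc local sections
-/

set_option autoImplicit false
set_option linter.all false

universe u

open CategoryTheory CategoryTheory.Limits AlgebraicGeometry

namespace GrothLib.LocalSecDesc13

theorem of_localSections (P : MorphismProperty Scheme.{u}) [IsZariskiLocalAtTarget P] [P.IsStableUnderBaseChange]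
    [P.DescendsAlong (@Surjective ⊓ @Flat ⊓ @QuasiCompact : MorphismProperty Scheme.{u})]
    {X A B X' : Scheme.{u}} {f : X ⟶ B} {j : A ⟶ B} {f' : X' ⟶ A} {l : X' ⟶ X} (sq : IsPullback l f' f j)
    (hj : NonAbH1.IsLocallyTrivialFor Scheme.fpqcPrecoverage (Over.mk j)) (h : P f') : P f := by
  obtain ⟨R, hR, hsec⟩ := hj
  obtain ⟨κ, U, g, hg, href⟩ := GrothLib.FpqcRep.exists_small_refinement hR
  obtain ⟨hqc, hflat, -⟩ := GrothLib.FpqcCov.quasiCompactCover_and_flat g hg
  refine GrothLib.FpqcCov.of_fpqc P inferInstance f (PreZeroHypercover.mk κ U g) hflat fun i => ?_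
  obtain ⟨Z, r, k, hr, hk⟩ := href i
  obtain ⟨s, hs⟩ := hsec r hr
  have hks : (k ≫ s) ≫ j = g i := by rw [Category.assoc, show s ≫ j = r from hs, hk]
  show P (pullback.snd f (g i))
  have big : IsPullback (pullback.fst f' (k ≫ s) ≫ l) (pullback.snd f' (k ≫ s)) f (g i) := by
    rw [← hks]
    exact (IsPullback.of_hasPullback f' (k ≫ s)).paste_horiz sq
  rw [← big.isoPullback_inv_snd, P.cancel_left_of_respectsIso]
  exact P.pullback_snd _ _ h

end GrothLib.LocalSecDesc13
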